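import Cfsg.Agent.H84.Spr.F4Two
import Cfsg.Agent.H378.Spr.F4two
import Cfsg.Agent.H39.F4G.Graph

/-!
# S3938: the row `F₄(2)` (helper84, helper378, helper39)
-/

set_option autoImplicit false

namespace Cfsg.Agent.H84.Spr.F4Two

open Cfsg Cfsg.Agent.OrdDiv Cfsg.Agent.H436 Cfsg.Agent.H563.KG Cfsg.Agent.H56.Exc Subgroup
open Cfsg.Agent.H862.Spr (Body)

/-- **`F₄(2)`** -/
theorem spr_f4_two (tb : OrderTable.{0}) (hcyc : CycFixSolv.{0}) (hcf : CF) {T : Type} [Group T] [Finite T]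
    (hT : IsNamed (.f4 2) T) : H424.Spr.Spr T := by
  refine spr_of_named tb hcyc hcf ?_ ?_ hT
  · intro F _ _ hF z hz hz1
    obtain ⟨x, hx⟩ := H378.F4two.inv_F4 hF z hz hz1
    refine ⟨x, fun K h1 h2 => ?_⟩
    obtain ⟨h13, h17⟩ := hx K h1 (fun h hh => h2 h hh)
    exact top_of_dvd tb hcyc hcf hF K h13 h17
  · intro F _ _ hF a ha hn
    exact H39.F4G.graph_body hF (fun B h1 h2 => top_of_dvd tb hcyc hcf hF B h1 h2) a ha hn

end Cfsg.Agent.H84.Spr.F4Two
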