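import Cfsg.Agent.H563.KG.KF4
import Cfsg.Agent.H330.Gow
import Cfsg.Agent.H400.LieSimple
import Cfsg.Agent.S1062
import Cfsg.Agent.S2122
import Cfsg.Agent.H862.Spr.ULTwo

/-!
# S3938: the group `F₄(2)` (helper84)

* `top_of_dvd` : a subgroup of `F₄(2)` of order divisible by `13` and `17` is the whole group;
* `body_odd` : the semisimple inner automorphisms (Gow's theorem: `z = x₁₃ x₁₇`);
* `exists_conj` : the automorphisms of odd prime order are inner;
* `spr_of` : `Spr` from the inner involutions and the graph involutions.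
-/

set_option autoImplicit false

namespace Cfsg.Agent.H84.Spr.F4Two

open Cfsg Cfsg.Agent.OrdDiv Cfsg.Agent.H436 Cfsg.Agent.H563.KG Cfsg.Agent.H56.Exc Subgroup
open Cfsg.Agent.H862.Spr (Body spr_of_prime)

variable {F : Type} [Field F] [Fintype F]

theorem card_L (hF : Fintype.card F = 2) :
    Nat.card ↥(Lie.chevF4.group F) = 2 ^ 24 * 3 ^ 6 * 5 ^ 2 * 7 ^ 2 * 13 * 17 := by
  rw [Cfsg.Agent.S1062.result (q := 2) hF]
  norm_num

theorem prim13 {r : ℕ} (h : Prim 2 12 r) : r = 13 := by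
  have h1 : r ∣ 2 ^ 12 - 1 := h.dvd dvd_rfl
  have h2 : ¬ r ∣ 2 ^ 4 - 1 := h.not_dvd_sub (by norm_num)
  have h3 : ¬ r ∣ 2 ^ 6 - 1 := h.not_dvd_sub (by norm_num)
  have h4 : (2 ^ 12 - 1 : ℕ) = (2 ^ 6 - 1) * (5 * 13) := by norm_num
  rw [h4] at h1
  have h5 := (h.prime.dvd_mul.1 h1).resolve_left h3
  rcases h.prime.dvd_mul.1 h5 with h6 | h6
  · exact absurd (h6.trans (by norm_num)) h2
  · exact (Nat.prime_dvd_prime_iff_eq h.prime (by norm_num)).1 h6

theorem prim17 {r : ℕ} (h : Prim 2 8 r) : r = 17 := by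
  have h1 : r ∣ 2 ^ 8 - 1 := h.dvd dvd_rfl
  have h2 : ¬ r ∣ 2 ^ 4 - 1 := h.not_dvd_sub (by norm_num)
  have h4 : (2 ^ 8 - 1 : ℕ) = (2 ^ 4 - 1) * 17 := by norm_num
  rw [h4] at h1
  exact (Nat.prime_dvd_prime_iff_eq h.prime (by norm_num)).1 ((h.prime.dvd_mul.1 h1).resolve_left h2)

/-- **a subgroup of `F₄(2)` of order divisible by `13` and `17` is the whole group** -/
theorem top_of_dvd (tb : OrderTable.{0}) (hcyc : CycFixSolv.{0}) (hcf : CF) (hF : Fintype.card F = 2) (B : Subgroup ↥(Lie.chevF4.group F))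
    (h13 : 13 ∣ Nat.card B) (h17 : 17 ∣ Nat.card B) : B = ⊤ := by
  have key : ∀ r : ℕ, r.Prime → r ∣ Nat.card B → ¬ r ^ 2 ∣ 2 ^ 24 * 3 ^ 6 * 5 ^ 2 * 7 ^ 2 * 13 * 17 → ¬ r ∣ B.index := by
    intro r hr h1 h2 h3
    apply h2
    rw [← card_L hF, ← B.card_mul_index, sq]
    exact mul_dvd_mul h1 h3
  refine K_F4 tb hcyc hcf B fun e he r hr => ?_
  rw [hF] at hr
  have he' : e = 12 ∨ e = 8 := by simpa using he
  rcases he' with rfl | rfl
  · rw [prim13 hr]
    exact key 13 (by norm_num) h13 (by norm_num)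
  · rw [prim17 hr]
    exact key 17 (by norm_num) h17 (by norm_num)

/-- the centraliser of an element of order `13` or `17` has odd order -/
theorem odd_cent (hF : Fintype.card F = 2) {x : ↥(Lie.chevF4.group F)} (hx : orderOf x = 13 ∨ orderOf x = 17) :
    ¬ 2 ∣ Nat.card ↥(centralizer ({x} : Set ↥(Lie.chevF4.group F))) := by
  rcases hx with hx | hx
  · obtain ⟨r, hr⟩ := exists_prim (q := 2) (e := 12) le_rfl (by norm_num) (by norm_num)
    have h13 := prim13 hr
    subst h13
    have hb := big_F4_12 (F := F) (q := 2) (m := 13) hF (by norm_num) hr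
    intro h
    exact absurd (h.trans (hb.card x hx)) (by norm_num)
  · obtain ⟨r, hr⟩ := exists_prim (q := 2) (e := 8) le_rfl (by norm_num) (by norm_num)
    have h17 := prim17 hr
    subst h17
    have hb := big_F4_8 (F := F) (q := 2) (m := 17) hF (by norm_num) hr
    intro h
    exact absurd (h.trans (hb.card x hx)) (by norm_num)

theorem charP_two (hF : Fintype.card F = 2) : CharP F 2 := by
  obtain ⟨p, f, hc, hp, hf, hq⟩ := exists_pf F
  have h1 : p = 2 := by
    rw [hF] at hq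
    exact (Nat.prime_dvd_prime_iff_eq hp Nat.prime_two).1 (hq ▸ dvd_pow_self p (by omega))
  rwa [h1] at hc

theorem isLie (hF : Fintype.card F = 2) : IsLieTypeChar 2 ↥(Lie.chevF4.group F) := by
  refine Or.inr (Or.inr (Or.inr (Or.inr (Or.inr (Or.inr (Or.inl ?_))))))
  exact ⟨F, inferInstance, inferInstance, charP_two hF, Or.inr (Or.inl ⟨MulEquiv.refl _⟩)⟩

theorem isSimple (hF : Fintype.card F = 2) : IsSimpleGroup ↥(Lie.chevF4.group F) :=
  H400.LieSimple.isSimple_of_lie (isLie hF)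

/-- a nontrivial subgroup invariant under `z` which generates the group with `z` is the whole group -/
theorem top_of_sup {L : Type*} [Group L] [Finite L] [hs : IsSimpleGroup L] (K : Subgroup L) (z : L)
    (hK : ∀ k ∈ K, z * k * z⁻¹ ∈ K) (hne : K ≠ ⊥) (htop : K ⊔ zpowers z = ⊤) : K = ⊤ := by
  have h1 : z ∈ normalizer (K : Set L) := mem_normalizer_fintype hK
  have h2 : normalizer (K : Set L) = ⊤ := by
    rw [eq_top_iff, ← htop]
    exact sup_le le_normalizer (zpowers_le.2 h1)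
  exact (hs.eq_bot_or_eq_top_of_normal K (normalizer_eq_top_iff.1 h2)).resolve_left hne

/-- **the semisimple inner automorphisms** -/
theorem body_odd (tb : OrderTable.{0}) (hcyc : CycFixSolv.{0}) (hcf : CF) (hF : Fintype.card F = 2) {z : ↥(Lie.chevF4.group F)} (hz : z ≠ 1)
    (hodd : ¬ 2 ∣ orderOf z) : Body (MulAut.conj z) := by
  have := isSimple hF
  have hp13 : Fact (Nat.Prime 13) := ⟨by norm_num⟩
  have hp17 : Fact (Nat.Prime 17) := ⟨by norm_num⟩
  obtain ⟨x, hx⟩ := exists_prime_orderOf_dvd_card' (G := ↥(Lie.chevF4.group F)) 13 (by rw [card_L hF]; norm_num)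
  obtain ⟨y, hy⟩ := exists_prime_orderOf_dvd_card' (G := ↥(Lie.chevF4.group F)) 17 (by rw [card_L hF]; norm_num)
  obtain ⟨g, h, hgh⟩ := H330.Gow.gow Nat.prime_two (isLie hF) (odd_cent hF (Or.inl hx)) (odd_cent hF (Or.inr hy)) hz hodd
  refine ⟨g * x * g⁻¹, fun K hK hinv => ?_⟩
  have hox : orderOf (g * x * g⁻¹) = 13 := by
    rw [← hx]
    exact orderOf_injective (MulAut.conj g).toMonoidHom (MulAut.conj g).injective x
  have hoy : orderOf (h * y * h⁻¹) = 17 := by
    rw [← hy]
    exact orderOf_injective (MulAut.conj h).toMonoidHom (MulAut.conj h).injective y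
  have hdvd : ∀ (B : Subgroup ↥(Lie.chevF4.group F)) (w : ↥(Lie.chevF4.group F)), w ∈ B → orderOf w ∣ Nat.card B := by
    intro B w hw
    rw [← orderOf_mk w hw]
    exact orderOf_dvd_natCard _
  have hxB : g * x * g⁻¹ ∈ K ⊔ zpowers z := mem_sup_left hK
  have hzB : z ∈ K ⊔ zpowers z := mem_sup_right (mem_zpowers z)
  have hyB : h * y * h⁻¹ ∈ K ⊔ zpowers z := by
    have h1 : h * y * h⁻¹ = (g * x * g⁻¹)⁻¹ * z := by rw [← hgh]; group
    rw [h1]
    exact mul_mem (inv_mem hxB) hzB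
  refine top_of_sup K z (fun k hk => hinv k hk) ?_ (top_of_dvd tb hcyc hcf hF _ (hox ▸ hdvd _ _ hxB) (hoy ▸ hdvd _ _ hyB))
  rintro rfl
  rw [mem_bot] at hK
  rw [hK, orderOf_one] at hox
  norm_num at hox

/-- **the automorphisms of odd order are inner** -/
theorem exists_conj (hF : Fintype.card F = 2) (a : MulAut ↥(Lie.chevF4.group F)) (hodd : ¬ 2 ∣ orderOf a) :
    ∃ z, a = MulAut.conj z := by
  have hc := charP_two hF
  have : Fact (Nat.Prime 2) := ⟨Nat.prime_two⟩
  have h1 : Nat.card (Cfsg.Out ↥(Lie.chevF4.group F)) = 2 := by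
    rw [Cfsg.Agent.S2122.result 2 1 (by rw [hF]; norm_num)]
    norm_num
  have h2 : (MulAut.conj : ↥(Lie.chevF4.group F) →* _).range.index = 2 := h1
  have h3 : (MulAut.conj : ↥(Lie.chevF4.group F) →* _).range.Normal := Subgroup.normal_of_index_eq_two h2
  have h4 : a ^ 2 ∈ (MulAut.conj : ↥(Lie.chevF4.group F) →* _).range := by
    rw [← h2]
    exact Subgroup.pow_index_mem _ a
  have h5 : (orderOf a).Coprime 2 := ((Nat.Prime.coprime_iff_not_dvd Nat.prime_two).2 hodd).symm
  have h6 : a ∈ (MulAut.conj : ↥(Lie.chevF4.group F) →* _).range := by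
    have h7 : a ∈ zpowers (a ^ 2) := mem_zpowers_pow_iff.2 (by
      have : (orderOf a).gcd 2 = 1 := h5
      rwa [Nat.gcd_comm] at this)
    exact zpowers_le.2 h4 h7
  obtain ⟨z, hz⟩ := h6
  exact ⟨z, hz.symm⟩

theorem conj_injective (hF : Fintype.card F = 2) :
    Function.Injective (MulAut.conj : ↥(Lie.chevF4.group F) →* MulAut ↥(Lie.chevF4.group F)) := by
  have := isSimple hF
  rw [injective_iff_map_eq_one]
  intro w hw
  have h5 : w ∈ center ↥(Lie.chevF4.group F) := by
    rw [mem_center_iff]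
    intro g
    have h6 := DFunLike.congr_fun hw g
    rw [MulAut.conj_apply, MulAut.one_apply] at h6
    calc g * w = w * g * w⁻¹ * w := by rw [h6]
      _ = w * g := by group
  rw [H400.LieLocal.center_eq_bot (H330.Gow.hasSplit_of_ab
    (H716.SplitAb.hasSplitAb_of_lie Nat.prime_two (isLie hF)))] at h5
  exact mem_bot.1 h5

/-- **`F₄(2)`** from the inner involutions and the graph involutions -/
theorem spr_of (tb : OrderTable.{0}) (hcyc : CycFixSolv.{0}) (hcf : CF) (hF : Fintype.card F = 2)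
    (hinv : ∀ z : ↥(Lie.chevF4.group F), z * z = 1 → z ≠ 1 → Body (MulAut.conj z))
    (hgr : ∀ a : MulAut ↥(Lie.chevF4.group F), orderOf a = 2 → (∀ z, a ≠ MulAut.conj z) → Body a) :
    H424.Spr.Spr ↥(Lie.chevF4.group F) := by
  have := isSimple hF
  refine spr_of_prime fun a ha => ?_
  have hne : a ≠ 1 := by
    rintro rfl
    rw [orderOf_one] at ha
    exact Nat.not_prime_one ha
  by_cases h2 : 2 ∣ orderOf a
  · have h3 : orderOf a = 2 := ((Nat.prime_dvd_prime_iff_eq Nat.prime_two ha).1 h2).symm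
    by_cases h4 : ∃ z, a = MulAut.conj z
    · obtain ⟨z, rfl⟩ := h4
      have hinj := conj_injective hF
      refine hinv z ?_ ?_
      · apply hinj
        rw [map_mul, map_one, ← sq, ← h3]
        exact pow_orderOf_eq_one _
      · rintro rfl
        exact hne (map_one _)
    · push Not at h4
      exact hgr a h3 h4
  · obtain ⟨z, rfl⟩ := exists_conj hF a h2
    refine body_odd tb hcyc hcf hF ?_ ?_
    · rintro rfl
      exact hne (map_one _)
    · intro h3
      apply h2
      have hinj := conj_injective hF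
      rw [orderOf_injective _ hinj]
      exact h3

/-- the name `F₄(2)` -/
theorem spr_of_named (tb : OrderTable.{0}) (hcyc : CycFixSolv.{0}) (hcf : CF)
    (hinv : ∀ {F : Type} [Field F] [Fintype F], Fintype.card F = 2 → ∀ z : ↥(Lie.chevF4.group F), z * z = 1 → z ≠ 1 →
      Body (MulAut.conj z))
    (hgr : ∀ {F : Type} [Field F] [Fintype F], Fintype.card F = 2 → ∀ a : MulAut ↥(Lie.chevF4.group F), orderOf a = 2 →
      (∀ z, a ≠ MulAut.conj z) → Body a) {T : Type} [Group T] [Finite T] (hT : IsNamed (.f4 2) T) : H424.Spr.Spr T := by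
  obtain ⟨F, _, _, hF, ⟨e⟩⟩ := hT.real
  exact H424.Spr.Spr.congr e.symm (spr_of tb hcyc hcf hF (hinv hF) (hgr hF))

end Cfsg.Agent.H84.Spr.F4Two
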