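import Cfsg.Agent.H84.Spr.TE6Two
import Cfsg.Agent.H378.Spr.TE6body
import Cfsg.Agent.H862.Spr.Rows

/-!
# S3938: the row `²E₆(2)` (helper84, helper378, helper330)
-/

set_option autoImplicit false

namespace Cfsg.Agent.H84.Spr.TE6Two

open Cfsg Cfsg.Agent.OrdDiv Cfsg.Agent.H436 Cfsg.Agent.H563.KG Cfsg.Agent.H56.Exc Subgroup
open Cfsg.Agent.H862.Spr (Body)
open Cfsg.Agent.H330.GowTe6 (charP2)

/-- **`²E₆(2)`** -/
theorem spr_te6_two (tb : OrderTable.{0}) (hcyc : CycFixSolv.{0}) (hcf : CF) {T : Type} [Group T] [Finite T]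
    (hT : IsNamed (.te6 2) T) : H424.Spr.Spr T := by
  refine spr_of_named tb hcyc hcf ?_ ?_ hT
  · intro F _ _ hF z hz hz1
    refine H378.TE6two.body_invol hF (fun H h1 h2 => top_of_dvd tb hcyc hcf hF H h1 h2) _ ?_
    rw [orderOf_injective _ (conj_injective hF), orderOf_eq_iff (by norm_num)]
    refine ⟨by rw [sq, hz], fun m hm hm0 => ?_⟩
    have : m = 1 := by omega
    rw [this, pow_one]
    exact hz1
  · intro F _ _ hF a ha _
    exact H378.TE6two.body_invol hF (fun H h1 h2 => top_of_dvd tb hcyc hcf hF H h1 h2) a ha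

/-- **the row of S3938** -/
theorem row_te6_two (tb : OrderTable.{0}) (hcyc : CycFixSolv.{0}) (hcf : CF) : H862.Spr.Row (.te6 2) :=
  fun _ hT => spr_te6_two tb hcyc hcf hT

end Cfsg.Agent.H84.Spr.TE6Two
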