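import Cfsg.Agent.H563.KG.KTE6
import Cfsg.Agent.H330.GowTe6
import Cfsg.Agent.H190.Cov.Two.Facts
import Cfsg.Agent.S2130
import Cfsg.Agent.H862.Spr.ULTwo

/-!
# S3938: the group `²E₆(2)` (helper84)

* `top_of_dvd` : a subgroup of `²E₆(2)` of order divisible by `13` and `19` is the whole group;
* `body_odd` : the semisimple inner automorphisms (Gow's theorem: `z = x₁₃ x₁₉`);
* `exists_conj` : the automorphisms of prime order at least 5 are inner;
* `spr_of` : `Spr` from the inner involutions and the outer involutions (the outer automorphisms of order 3 : helper330).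
-/

set_option autoImplicit false

namespace Cfsg.Agent.H84.Spr.TE6Two

open Cfsg Cfsg.Agent.OrdDiv Cfsg.Agent.H436 Cfsg.Agent.H563.KG Cfsg.Agent.H56.Exc Subgroup
open Cfsg.Agent.H862.Spr (Body spr_of_prime)
open Cfsg.Agent.H330.GowTe6 (pp2 card_eq big19 big13 charP2 lie2)

variable {F : Type} [Field F] [Fintype F]

/-- **a subgroup of `²E₆(2)` of order divisible by `13` and `19` is the whole group** -/
theorem top_of_dvd (tb : OrderTable.{0}) (hcyc : CycFixSolv.{0}) (hcf : CF) (hF : Fintype.card F = 2 ^ 2)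
    (B : Subgroup ↥(Lie.twistedE6 F 2)) (h13 : 13 ∣ Nat.card B) (h19 : 19 ∣ Nat.card B) : B = ⊤ := by
  have key : ∀ r : ℕ, r.Prime → r ∣ Nat.card B → ¬ r ^ 2 ∣ 76532479683774853939200 → ¬ r ∣ B.index := by
    intro r hr h1 h2 h3
    apply h2
    rw [← card_eq hF, ← B.card_mul_index, sq]
    exact mul_dvd_mul h1 h3
  refine K_TE6 tb hcyc hcf pp2 hF B fun e he r hr => ?_
  have he' : e = 18 ∨ e = 12 := by simpa using he
  rcases he' with rfl | rfl
  · rw [Cfsg.Agent.H190.Cov.Two.eq19 hr]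
    exact key 19 (by norm_num) h19 (by norm_num)
  · rw [Cfsg.Agent.H190.Cov.Two.eq13 hr]
    exact key 13 (by norm_num) h13 (by norm_num)

/-- the centraliser of an element of order `13` or `19` has odd order -/
theorem odd_cent (hF : Fintype.card F = 2 ^ 2) {x : ↥(Lie.twistedE6 F 2)} (hx : orderOf x = 13 ∨ orderOf x = 19) :
    ¬ 2 ∣ Nat.card ↥(centralizer ({x} : Set ↥(Lie.twistedE6 F 2))) := by
  rcases hx with hx | hx
  · intro h
    exact absurd (h.trans ((big13 hF).card x hx)) (by norm_num)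
  · intro h
    exact absurd (h.trans ((big19 hF).card x hx)) (by norm_num)

theorem isFinite (hF : Fintype.card F = 2 ^ 2) : Finite ↥(Lie.twistedE6 F 2) :=
  Nat.finite_of_card_ne_zero (by rw [card_eq hF]; norm_num)

theorem isSimple (hF : Fintype.card F = 2 ^ 2) : IsSimpleGroup ↥(Lie.twistedE6 F 2) := by
  have := isFinite hF
  exact H400.LieSimple.isSimple_of_lie (lie2 hF)

/-- a nontrivial subgroup invariant under `z` which generates the group with `z` is the whole group -/
theorem top_of_sup {L : Type*} [Group L] [Finite L] [hs : IsSimpleGroup L] (K : Subgroup L) (z : L)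
    (hK : ∀ k ∈ K, z * k * z⁻¹ ∈ K) (hne : K ≠ ⊥) (htop : K ⊔ zpowers z = ⊤) : K = ⊤ := by
  have h1 : z ∈ normalizer (K : Set L) := mem_normalizer_fintype hK
  have h2 : normalizer (K : Set L) = ⊤ := by
    rw [eq_top_iff, ← htop]
    exact sup_le le_normalizer (zpowers_le.2 h1)
  exact (hs.eq_bot_or_eq_top_of_normal K (normalizer_eq_top_iff.1 h2)).resolve_left hne

/-- **the semisimple inner automorphisms** -/
theorem body_odd (tb : OrderTable.{0}) (hcyc : CycFixSolv.{0}) (hcf : CF) (hF : Fintype.card F = 2 ^ 2)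
    {z : ↥(Lie.twistedE6 F 2)} (hz : z ≠ 1) (hodd : ¬ 2 ∣ orderOf z) : Body (MulAut.conj z) := by
  have := isFinite hF
  have := isSimple hF
  have hp13 : Fact (Nat.Prime 13) := ⟨by norm_num⟩
  have hp19 : Fact (Nat.Prime 19) := ⟨by norm_num⟩
  obtain ⟨x, hx⟩ := exists_prime_orderOf_dvd_card' (G := ↥(Lie.twistedE6 F 2)) 13 (by rw [card_eq hF]; norm_num)
  obtain ⟨y, hy⟩ := exists_prime_orderOf_dvd_card' (G := ↥(Lie.twistedE6 F 2)) 19 (by rw [card_eq hF]; norm_num)
  obtain ⟨g, h, hgh⟩ := H330.Gow.gow Nat.prime_two (lie2 hF) (odd_cent hF (Or.inl hx)) (odd_cent hF (Or.inr hy)) hz hodd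
  refine ⟨g * x * g⁻¹, fun K hK hinv => ?_⟩
  have hox : orderOf (g * x * g⁻¹) = 13 := by
    rw [← hx]
    exact orderOf_injective (MulAut.conj g).toMonoidHom (MulAut.conj g).injective x
  have hoy : orderOf (h * y * h⁻¹) = 19 := by
    rw [← hy]
    exact orderOf_injective (MulAut.conj h).toMonoidHom (MulAut.conj h).injective y
  have hdvd : ∀ (B : Subgroup ↥(Lie.twistedE6 F 2)) (w : ↥(Lie.twistedE6 F 2)), w ∈ B → orderOf w ∣ Nat.card B := by
    intro B w hw
    rw [← orderOf_mk w hw]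
    exact orderOf_dvd_natCard _
  have hxB : g * x * g⁻¹ ∈ K ⊔ zpowers z := mem_sup_left hK
  have hzB : z ∈ K ⊔ zpowers z := mem_sup_right (mem_zpowers z)
  have hyB : h * y * h⁻¹ ∈ K ⊔ zpowers z := by
    have h1 : h * y * h⁻¹ = (g * x * g⁻¹)⁻¹ * z := by rw [← hgh]; group
    rw [h1]
    exact mul_mem (inv_mem hxB) hzB
  refine top_of_sup K z (fun k hk => hinv k hk) ?_
    (top_of_dvd tb hcyc hcf hF _ (hox ▸ hdvd _ _ hxB) (hoy ▸ hdvd _ _ hyB))
  rintro rfl
  rw [mem_bot] at hK
  rw [hK, orderOf_one] at hox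
  norm_num at hox

/-- **the automorphisms of order prime to 6 are inner** -/
theorem exists_conj (hF : Fintype.card F = 2 ^ 2) (a : MulAut ↥(Lie.twistedE6 F 2)) (hco : (orderOf a).Coprime 6) :
    ∃ z, a = MulAut.conj z := by
  have hc := charP2 hF
  have : Fact (Nat.Prime 2) := ⟨Nat.prime_two⟩
  have h1 : Nat.card (Cfsg.Out ↥(Lie.twistedE6 F 2)) = 6 := by
    have := Cfsg.Agent.S2130.result (K := F) 2 1 (by rw [hF]) le_rfl
    rw [pow_one] at this
    rw [this]
    norm_num
  have h2 : (MulAut.conj : ↥(Lie.twistedE6 F 2) →* _).range.index = 6 := h1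
  have h3 : (MulAut.conj : ↥(Lie.twistedE6 F 2) →* _).range.Normal := H330.GowOut.range_normal
  have h4 : a ^ 6 ∈ (MulAut.conj : ↥(Lie.twistedE6 F 2) →* _).range := by
    rw [← h2]
    exact Subgroup.pow_index_mem _ a
  have h6 : a ∈ (MulAut.conj : ↥(Lie.twistedE6 F 2) →* _).range := by
    have h7 : a ∈ zpowers (a ^ 6) := mem_zpowers_pow_iff.2 (by
      have : (orderOf a).gcd 6 = 1 := hco
      rwa [Nat.gcd_comm] at this)
    exact zpowers_le.2 h4 h7
  obtain ⟨z, hz⟩ := h6
  exact ⟨z, hz.symm⟩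

theorem conj_injective (hF : Fintype.card F = 2 ^ 2) :
    Function.Injective (MulAut.conj : ↥(Lie.twistedE6 F 2) →* MulAut ↥(Lie.twistedE6 F 2)) := by
  have := isFinite hF
  have := isSimple hF
  rw [injective_iff_map_eq_one]
  intro w hw
  have h5 : w ∈ center ↥(Lie.twistedE6 F 2) := by
    rw [mem_center_iff]
    intro g
    have h6 := DFunLike.congr_fun hw g
    rw [MulAut.conj_apply, MulAut.one_apply] at h6
    calc g * w = w * g * w⁻¹ * w := by rw [h6]
      _ = w * g := by group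
  rw [H400.LieLocal.center_eq_bot (H330.Gow.hasSplit_of_ab
    (H716.SplitAb.hasSplitAb_of_lie Nat.prime_two (lie2 hF)))] at h5
  exact mem_bot.1 h5

/-- **`²E₆(2)`** from the inner involutions and the outer involutions -/
theorem spr_of (tb : OrderTable.{0}) (hcyc : CycFixSolv.{0}) (hcf : CF) (hF : Fintype.card F = 2 ^ 2)
    (hinv : ∀ z : ↥(Lie.twistedE6 F 2), z * z = 1 → z ≠ 1 → Body (MulAut.conj z))
    (hgr : ∀ a : MulAut ↥(Lie.twistedE6 F 2), orderOf a = 2 → (∀ z, a ≠ MulAut.conj z) → Body a) :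
    H424.Spr.Spr ↥(Lie.twistedE6 F 2) := by
  have := isFinite hF
  have := isSimple hF
  refine spr_of_prime fun a ha => ?_
  have hne : a ≠ 1 := by
    rintro rfl
    rw [orderOf_one] at ha
    exact Nat.not_prime_one ha
  have hinj := conj_injective hF
  by_cases h4 : ∃ z, a = MulAut.conj z
  · obtain ⟨z, rfl⟩ := h4
    have hz1 : z ≠ 1 := by
      rintro rfl
      exact hne (map_one _)
    by_cases h2 : 2 ∣ orderOf (MulAut.conj z)
    · have h3 : orderOf (MulAut.conj z) = 2 := ((Nat.prime_dvd_prime_iff_eq Nat.prime_two ha).1 h2).symm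
      refine hinv z ?_ hz1
      apply hinj
      rw [map_mul, map_one, ← sq]
      exact orderOf_dvd_iff_pow_eq_one.1 (dvd_of_eq h3)
    · refine body_odd tb hcyc hcf hF hz1 ?_
      intro h3
      apply h2
      rw [orderOf_injective _ hinj]
      exact h3
  · by_cases h2 : 2 ∣ orderOf a
    · have h3 : orderOf a = 2 := ((Nat.prime_dvd_prime_iff_eq Nat.prime_two ha).1 h2).symm
      push Not at h4
      exact hgr a h3 h4
    · by_cases h3 : 3 ∣ orderOf a
      · have h5 : orderOf a = 3 := ((Nat.prime_dvd_prime_iff_eq Nat.prime_three ha).1 h3).symm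
        refine H330.GowTe6.body_te6 hF (fun H h6 h7 => top_of_dvd tb hcyc hcf hF H h6 h7) ?_ ?_
        · exact orderOf_dvd_iff_pow_eq_one.1 (dvd_of_eq h5)
        · rintro ⟨z, hz⟩
          exact h4 ⟨z, hz.symm⟩
      · exfalso
        apply h4
        apply exists_conj hF
        rw [show (6 : ℕ) = 2 * 3 from rfl]
        exact Nat.Coprime.mul_right ((Nat.Prime.coprime_iff_not_dvd Nat.prime_two).2 h2).symm
          ((Nat.Prime.coprime_iff_not_dvd Nat.prime_three).2 h3).symm

/-- the name `²E₆(2)` -/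
theorem spr_of_named (tb : OrderTable.{0}) (hcyc : CycFixSolv.{0}) (hcf : CF)
    (hinv : ∀ {F : Type} [Field F] [Fintype F], Fintype.card F = 2 ^ 2 → ∀ z : ↥(Lie.twistedE6 F 2), z * z = 1 → z ≠ 1 →
      Body (MulAut.conj z))
    (hgr : ∀ {F : Type} [Field F] [Fintype F], Fintype.card F = 2 ^ 2 → ∀ a : MulAut ↥(Lie.twistedE6 F 2), orderOf a = 2 →
      (∀ z, a ≠ MulAut.conj z) → Body a) {T : Type} [Group T] [Finite T] (hT : IsNamed (.te6 2) T) : H424.Spr.Spr T := by
  obtain ⟨F, _, _, hF, ⟨e⟩⟩ := hT.real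
  exact H424.Spr.Spr.congr e.symm (spr_of tb hcyc hcf hF (hinv hF) (hgr hF))

end Cfsg.Agent.H84.Spr.TE6Two
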